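import Cfsg.Agent.H0.QMcL.D
set_option maxRecDepth 100000
set_option Elab.async false
set_option linter.unusedSectionVars false
namespace H0.QMcL
open H0 BN 
theorem defs_ok : DefsOK R.p defs 13 := defsOK_of_chk c24
universe u
variable {G : Type u} [Group G] [Finite G] (m0 : Model G) (h0 : m0.R = H6M.MMcL.R)
noncomputable def m : Model G := m0.ext (lg := nat_lit 9) (N := nat_lit 512) (l := H6M.MMcL.nl) h0 nl nl_ok 13 rfl defs defs_ok (by decide +kernel)
theorem mR : (m m0 h0).R = R := rfl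
variable (hb : m0.pst [107, 3, 2, 1, 0] = ⊥) (hc : Nat.card G = 898128000)
include h0 hb hc
theorem base : (m m0 h0).pst [107, 3, 2, 1, 0] = ⊥ := hb
omit hb hc in
theorem ch2_ok : (m m0 h0).ChainOK ch2 [] := ((m m0 h0).chain_cons [0, 1, 2] (Model.via _ (mR m0 h0) (fun R => Model.fixP R [] [[13], [14], [18]]) c2) (Model.via _ (mR m0 h0) (fun R => Model.growP R [[13], [14], [18]] [0, 1, 2] 1 8) c3) ((m m0 h0).chain_cons [0, 1, 2, 3] (Model.via _ (mR m0 h0) (fun R => Model.fixP R [1] [[13, 15], [16], [17], [19]]) c0) (Model.via _ (mR m0 h0) (fun R => Model.growP R [[13, 15], [16], [17], [19]] [0, 1, 2, 3] 2 16) c1) ((m m0 h0).chain_nil _)))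
theorem pb2 : PBound G (2 ^ (0 + 1)) :=
  (m m0 h0).pbound C2 13 (k := 7016625) (K := 2) (e := 1) hc (lt_step_all (a := 0) (k := 46) (lt_zero_all _) ((m m0 h0).rules_of (base m0 h0 hb hc) (Model.via _ (mR m0 h0) (fun R => rulesB R [107, 3, 2, 1, 0] (fun i => sh 13 (C2.L i)) (fun i => sh 13 (C2.R i)) 0 46) c4))) (ch2_ok m0 h0) (by decide +kernel) tests2 (all_take_done (all_take_step (all_take_zero _ tests2) (allL_spec c5)) (by decide +kernel))
    av2 FS2 YS2 rows2 (all_take_done (all_take_step (all_take_zero _ rows2) (allL_spec c6)) (by decide +kernel)) c7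
omit hb hc in
theorem ch3_ok : (m m0 h0).ChainOK ch3 [] := ((m m0 h0).chain_cons [0, 1, 2, 3, 0, 1, 3, 1] (Model.via _ (mR m0 h0) (fun R => Model.fixP R [] [[23], [24], [25], [26]]) c10) (Model.via _ (mR m0 h0) (fun R => Model.growP R [[23], [24], [25], [26]] [0, 1, 2, 3, 0, 1, 3, 1] 1 81) c11) ((m m0 h0).chain_cons [0, 1, 0, 1] (Model.via _ (mR m0 h0) (fun R => Model.fixP R [1] [[23, 25, 25, 26, 26], [24, 27, 27, 28]]) c8) (Model.via _ (mR m0 h0) (fun R => Model.growP R [[23, 25, 25, 26, 26], [24, 27, 27, 28]] [0, 1, 0, 1] 2 9) c9) ((m m0 h0).chain_nil _)))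
theorem pb3 : PBound G (3 ^ (1 + 1)) :=
  (m m0 h0).pbound C3 23 (k := 1232000) (K := 3) (e := 2) hc (lt_step_all (a := 0) (k := 38) (lt_zero_all _) ((m m0 h0).rules_of (base m0 h0 hb hc) (Model.via _ (mR m0 h0) (fun R => rulesB R [107, 3, 2, 1, 0] (fun i => sh 23 (C3.L i)) (fun i => sh 23 (C3.R i)) 0 38) c12))) (ch3_ok m0 h0) (by decide +kernel) tests3 (all_take_done (all_take_step (all_take_zero _ tests3) (allL_spec c13)) (by decide +kernel))
    av3 FS3 YS3 rows3 (all_take_done (all_take_step (all_take_zero _ rows3) (allL_spec c14)) (by decide +kernel)) c15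
omit hb hc in
theorem ch5_ok : (m m0 h0).ChainOK ch5 [] := ((m m0 h0).chain_cons [0, 1, 2, 0, 1, 2, 2] (Model.via _ (mR m0 h0) (fun R => Model.fixP R [] [[32], [33], [34]]) c18) (Model.via _ (mR m0 h0) (fun R => Model.growP R [[32], [33], [34]] [0, 1, 2, 0, 1, 2, 2] 0 25) c19) ((m m0 h0).chain_cons [0, 0, 0, 0] (Model.via _ (mR m0 h0) (fun R => Model.fixP R [0] [[32, 33, 33, 34, 34]]) c16) (Model.via _ (mR m0 h0) (fun R => Model.growP R [[32, 33, 33, 34, 34]] [0, 0, 0, 0] 1 5) c17) ((m m0 h0).chain_nil _)))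
theorem pb5 : PBound G (5 ^ (0 + 1)) :=
  (m m0 h0).pbound C5 32 (k := 7185024) (K := 2) (e := 1) hc (lt_step_all (a := 0) (k := 9) (lt_zero_all _) ((m m0 h0).rules_of (base m0 h0 hb hc) (Model.via _ (mR m0 h0) (fun R => rulesB R [107, 3, 2, 1, 0] (fun i => sh 32 (C5.L i)) (fun i => sh 32 (C5.R i)) 0 9) c20))) (ch5_ok m0 h0) (by decide +kernel) tests5 (all_take_done (all_take_step (all_take_zero _ tests5) (allL_spec c21)) (by decide +kernel))
    av5 FS5 YS5 rows5 (all_take_done (all_take_step (all_take_zero _ rows5) (allL_spec c22)) (by decide +kernel)) c23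
theorem bound (Γ : Type u) [Group Γ] [Finite Γ] (σ : Γ →* G) (hσ : Cfsg.IsStemExtension σ) : Nat.card σ.ker ∣ 3 :=
  card_ker_dvd (M := 11) (k := 7) (L := [2, 3, 5]) hc (by decide +kernel) (ex_bound (pb2 m0 h0 hb hc) (by decide) (ex_bound (pb3 m0 h0 hb hc) (by decide) (ex_bound (pb5 m0 h0 hb hc) (by decide) ex_bound_nil))) Γ σ hσ
end H0.QMcL
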